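import Cfsg.Agent.SB.SporE.Ru.Chk0

/-! S5765, row of Ru: assembly (generated by notes/SB/spor_tools, helper63) -/

set_option autoImplicit false

namespace Cfsg.Agent.SB.SporE.Ru

open Cfsg.Agent.SB Cfsg.Agent.SB.Spor

open Cfsg

set_option maxRecDepth 100000
set_option linter.unusedSectionVars false

variable {G : Type*} [Group G]

theorem tab (M : PM G 4060) : M.Tab lk mk ver := perm_tab M rfl (by norm_num) (by norm_num)

/-- the tables `E0` describe elements of `G`, and the order of `G` is bounded -/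
structure Hyp (M : PM G 4060) : Prop where
  h0 : AllIn M lk E0
  hN : Nat.card G ≤ 145926144000

variable [Finite G] {M : PM G 4060} (H : Hyp M)
include H

theorem s0 : AllIn M lk sl0 :=
  slp_spec (tab M) d1 E0 H.h0 c1

theorem i9 : M.In lk t9 :=
  s0 H _ (.head _)

theorem i10 : M.In lk t10 :=
  s0 H _ (.tail _ (.head _))

theorem i11 : M.In lk t11 :=
  s0 H _ (.tail _ (.tail _ (.head _)))

theorem i12 : M.In lk t12 :=
  s0 H _ (.tail _ (.tail _ (.tail _ (.head _))))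

theorem i13 : M.In lk t13 :=
  s0 H _ (.tail _ (.tail _ (.tail _ (.tail _ (.head _)))))

theorem i14 : M.In lk t14 :=
  s0 H _ (.tail _ (.tail _ (.tail _ (.tail _ (.tail _ (.head _))))))

theorem i15 : M.In lk t15 :=
  s0 H _ (.tail _ (.tail _ (.tail _ (.tail _ (.tail _ (.tail _ (.head _)))))))

theorem i16 : M.In lk t16 :=
  s0 H _ (.tail _ (.tail _ (.tail _ (.tail _ (.tail _ (.tail _ (.tail _ (.head _))))))))

theorem i17 : M.In lk t17 :=
  s0 H _ (.tail _ (.tail _ (.tail _ (.tail _ (.tail _ (.tail _ (.tail _ (.tail _ (.head _)))))))))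

theorem i18 : M.In lk t18 :=
  s0 H _ (.tail _ (.tail _ (.tail _ (.tail _ (.tail _ (.tail _ (.tail _ (.tail _ (.tail _ (.head _))))))))))

theorem i19 : M.In lk t19 :=
  s0 H _ (.tail _ (.tail _ (.tail _ (.tail _ (.tail _ (.tail _ (.tail _ (.tail _ (.tail _ (.tail _ (.head _)))))))))))

theorem i20 : M.In lk t20 :=
  s0 H _ (.tail _ (.tail _ (.tail _ (.tail _ (.tail _ (.tail _ (.tail _ (.tail _ (.tail _ (.tail _ (.tail _ (.head _))))))))))))

theorem i21 : M.In lk t21 :=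
  s0 H _ (.tail _ (.tail _ (.tail _ (.tail _ (.tail _ (.tail _ (.tail _ (.tail _ (.tail _ (.tail _ (.tail _ (.tail _ (.head _)))))))))))))

theorem i22 : M.In lk t22 :=
  s0 H _ (.tail _ (.tail _ (.tail _ (.tail _ (.tail _ (.tail _ (.tail _ (.tail _ (.tail _ (.tail _ (.tail _ (.tail _ (.tail _ (.head _))))))))))))))

theorem i23 : M.In lk t23 :=
  s0 H _ (.tail _ (.tail _ (.tail _ (.tail _ (.tail _ (.tail _ (.tail _ (.tail _ (.tail _ (.tail _ (.tail _ (.tail _ (.tail _ (.tail _ (.head _)))))))))))))))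

theorem i24 : M.In lk t24 :=
  s0 H _ (.tail _ (.tail _ (.tail _ (.tail _ (.tail _ (.tail _ (.tail _ (.tail _ (.tail _ (.tail _ (.tail _ (.tail _ (.tail _ (.tail _ (.tail _ (.head _))))))))))))))))

theorem i25 : M.In lk t25 :=
  s0 H _ (.tail _ (.tail _ (.tail _ (.tail _ (.tail _ (.tail _ (.tail _ (.tail _ (.tail _ (.tail _ (.tail _ (.tail _ (.tail _ (.tail _ (.tail _ (.tail _ (.head _)))))))))))))))))

theorem i26 : M.In lk t26 :=
  s0 H _ (.tail _ (.tail _ (.tail _ (.tail _ (.tail _ (.tail _ (.tail _ (.tail _ (.tail _ (.tail _ (.tail _ (.tail _ (.tail _ (.tail _ (.tail _ (.tail _ (.tail _ (.head _))))))))))))))))))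

theorem i27 : M.In lk t27 :=
  s0 H _ (.tail _ (.tail _ (.tail _ (.tail _ (.tail _ (.tail _ (.tail _ (.tail _ (.tail _ (.tail _ (.tail _ (.tail _ (.tail _ (.tail _ (.tail _ (.tail _ (.tail _ (.tail _ (.head _)))))))))))))))))))

theorem i28 : M.In lk t28 :=
  s0 H _ (.tail _ (.tail _ (.tail _ (.tail _ (.tail _ (.tail _ (.tail _ (.tail _ (.tail _ (.tail _ (.tail _ (.tail _ (.tail _ (.tail _ (.tail _ (.tail _ (.tail _ (.tail _ (.tail _ (.head _))))))))))))))))))))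

theorem i29 : M.In lk t29 :=
  s0 H _ (.tail _ (.tail _ (.tail _ (.tail _ (.tail _ (.tail _ (.tail _ (.tail _ (.tail _ (.tail _ (.tail _ (.tail _ (.tail _ (.tail _ (.tail _ (.tail _ (.tail _ (.tail _ (.tail _ (.tail _ (.head _)))))))))))))))))))))

theorem i30 : M.In lk t30 :=
  s0 H _ (.tail _ (.tail _ (.tail _ (.tail _ (.tail _ (.tail _ (.tail _ (.tail _ (.tail _ (.tail _ (.tail _ (.tail _ (.tail _ (.tail _ (.tail _ (.tail _ (.tail _ (.tail _ (.tail _ (.tail _ (.tail _ (.head _))))))))))))))))))))))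

theorem i31 : M.In lk t31 :=
  s0 H _ (.tail _ (.tail _ (.tail _ (.tail _ (.tail _ (.tail _ (.tail _ (.tail _ (.tail _ (.tail _ (.tail _ (.tail _ (.tail _ (.tail _ (.tail _ (.tail _ (.tail _ (.tail _ (.tail _ (.tail _ (.tail _ (.tail _ (.head _)))))))))))))))))))))))

theorem i32 : M.In lk t32 :=
  s0 H _ (.tail _ (.tail _ (.tail _ (.tail _ (.tail _ (.tail _ (.tail _ (.tail _ (.tail _ (.tail _ (.tail _ (.tail _ (.tail _ (.tail _ (.tail _ (.tail _ (.tail _ (.tail _ (.tail _ (.tail _ (.tail _ (.tail _ (.tail _ (.head _))))))))))))))))))))))))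

theorem i33 : M.In lk t33 :=
  s0 H _ (.tail _ (.tail _ (.tail _ (.tail _ (.tail _ (.tail _ (.tail _ (.tail _ (.tail _ (.tail _ (.tail _ (.tail _ (.tail _ (.tail _ (.tail _ (.tail _ (.tail _ (.tail _ (.tail _ (.tail _ (.tail _ (.tail _ (.tail _ (.tail _ (.head _)))))))))))))))))))))))))

theorem i34 : M.In lk t34 :=
  s0 H _ (.tail _ (.tail _ (.tail _ (.tail _ (.tail _ (.tail _ (.tail _ (.tail _ (.tail _ (.tail _ (.tail _ (.tail _ (.tail _ (.tail _ (.tail _ (.tail _ (.tail _ (.tail _ (.tail _ (.tail _ (.tail _ (.tail _ (.tail _ (.tail _ (.tail _ (.head _))))))))))))))))))))))))))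

theorem hE : AllIn M lk E :=
  (AllIn.cons (i9 H) (AllIn.cons (i10 H) (AllIn.cons (i11 H) (AllIn.cons (i12 H) (AllIn.cons (i13 H) (AllIn.cons (i14 H) (AllIn.cons (i15 H) (AllIn.cons (i16 H) (AllIn.cons (i17 H) (AllIn.cons (i18 H) (AllIn.cons (i19 H) (AllIn.cons (i20 H) (AllIn.cons (i21 H) (AllIn.cons (i22 H) (AllIn.cons (i23 H) (AllIn.cons (i24 H) (AllIn.cons (i25 H) (AllIn.cons (i26 H) (AllIn.cons (i27 H) (AllIn.cons (i28 H) (AllIn.cons (i29 H) (AllIn.cons (i30 H) (AllIn.cons (i31 H) (AllIn.cons (i32 H) (AllIn.cons (i33 H) (AllIn.cons (i34 H) AllIn.nil))))))))))))))))))))))))))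

theorem hB0 : M.Base B ∧ Nat.card G = 145926144000 :=
  base_of_chk (hE H) H.hN (B := B) rfl c2

theorem hB : M.Base B :=
  (hB0 H).1

theorem u0 : AllIn M lk ul0 :=
  slp_spec (tab M) d3 E (hE H) c3

theorem i35 : M.In lk t35 :=
  u0 H _ (.head _)

theorem i36 : M.In lk t36 :=
  u0 H _ (.tail _ (.head _))

theorem i37 : M.In lk t37 :=
  u0 H _ (.tail _ (.tail _ (.head _)))

theorem i38 : M.In lk t38 :=
  u0 H _ (.tail _ (.tail _ (.tail _ (.head _))))

theorem i39 : M.In lk t39 :=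
  u0 H _ (.tail _ (.tail _ (.tail _ (.tail _ (.head _)))))

theorem i40 : M.In lk t40 :=
  u0 H _ (.tail _ (.tail _ (.tail _ (.tail _ (.tail _ (.head _))))))

theorem i41 : M.In lk t41 :=
  u0 H _ (.tail _ (.tail _ (.tail _ (.tail _ (.tail _ (.tail _ (.head _)))))))

theorem i42 : M.In lk t42 :=
  u0 H _ (.tail _ (.tail _ (.tail _ (.tail _ (.tail _ (.tail _ (.tail _ (.head _))))))))

theorem i43 : M.In lk t43 :=
  u0 H _ (.tail _ (.tail _ (.tail _ (.tail _ (.tail _ (.tail _ (.tail _ (.tail _ (.head _)))))))))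

theorem i44 : M.In lk t44 :=
  u0 H _ (.tail _ (.tail _ (.tail _ (.tail _ (.tail _ (.tail _ (.tail _ (.tail _ (.tail _ (.head _))))))))))

theorem i45 : M.In lk t45 :=
  u0 H _ (.tail _ (.tail _ (.tail _ (.tail _ (.tail _ (.tail _ (.tail _ (.tail _ (.tail _ (.tail _ (.head _)))))))))))

theorem i46 : M.In lk t46 :=
  u0 H _ (.tail _ (.tail _ (.tail _ (.tail _ (.tail _ (.tail _ (.tail _ (.tail _ (.tail _ (.tail _ (.tail _ (.head _))))))))))))

theorem i47 : M.In lk t47 :=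
  u0 H _ (.tail _ (.tail _ (.tail _ (.tail _ (.tail _ (.tail _ (.tail _ (.tail _ (.tail _ (.tail _ (.tail _ (.tail _ (.head _)))))))))))))

theorem i48 : M.In lk t48 :=
  u0 H _ (.tail _ (.tail _ (.tail _ (.tail _ (.tail _ (.tail _ (.tail _ (.tail _ (.tail _ (.tail _ (.tail _ (.tail _ (.tail _ (.head _))))))))))))))

theorem i49 : M.In lk t49 :=
  u0 H _ (.tail _ (.tail _ (.tail _ (.tail _ (.tail _ (.tail _ (.tail _ (.tail _ (.tail _ (.tail _ (.tail _ (.tail _ (.tail _ (.tail _ (.head _)))))))))))))))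

theorem i50 : M.In lk t50 :=
  u0 H _ (.tail _ (.tail _ (.tail _ (.tail _ (.tail _ (.tail _ (.tail _ (.tail _ (.tail _ (.tail _ (.tail _ (.tail _ (.tail _ (.tail _ (.tail _ (.head _))))))))))))))))

theorem i51 : M.In lk t51 :=
  u0 H _ (.tail _ (.tail _ (.tail _ (.tail _ (.tail _ (.tail _ (.tail _ (.tail _ (.tail _ (.tail _ (.tail _ (.tail _ (.tail _ (.tail _ (.tail _ (.tail _ (.head _)))))))))))))))))

theorem i52 : M.In lk t52 :=
  u0 H _ (.tail _ (.tail _ (.tail _ (.tail _ (.tail _ (.tail _ (.tail _ (.tail _ (.tail _ (.tail _ (.tail _ (.tail _ (.tail _ (.tail _ (.tail _ (.tail _ (.tail _ (.head _))))))))))))))))))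

theorem i53 : M.In lk t53 :=
  u0 H _ (.tail _ (.tail _ (.tail _ (.tail _ (.tail _ (.tail _ (.tail _ (.tail _ (.tail _ (.tail _ (.tail _ (.tail _ (.tail _ (.tail _ (.tail _ (.tail _ (.tail _ (.tail _ (.head _)))))))))))))))))))

theorem i54 : M.In lk t54 :=
  u0 H _ (.tail _ (.tail _ (.tail _ (.tail _ (.tail _ (.tail _ (.tail _ (.tail _ (.tail _ (.tail _ (.tail _ (.tail _ (.tail _ (.tail _ (.tail _ (.tail _ (.tail _ (.tail _ (.tail _ (.head _))))))))))))))))))))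

theorem i55 : M.In lk t55 :=
  u0 H _ (.tail _ (.tail _ (.tail _ (.tail _ (.tail _ (.tail _ (.tail _ (.tail _ (.tail _ (.tail _ (.tail _ (.tail _ (.tail _ (.tail _ (.tail _ (.tail _ (.tail _ (.tail _ (.tail _ (.tail _ (.head _)))))))))))))))))))))

theorem i56 : M.In lk t56 :=
  u0 H _ (.tail _ (.tail _ (.tail _ (.tail _ (.tail _ (.tail _ (.tail _ (.tail _ (.tail _ (.tail _ (.tail _ (.tail _ (.tail _ (.tail _ (.tail _ (.tail _ (.tail _ (.tail _ (.tail _ (.tail _ (.tail _ (.head _))))))))))))))))))))))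

theorem i57 : M.In lk t57 :=
  u0 H _ (.tail _ (.tail _ (.tail _ (.tail _ (.tail _ (.tail _ (.tail _ (.tail _ (.tail _ (.tail _ (.tail _ (.tail _ (.tail _ (.tail _ (.tail _ (.tail _ (.tail _ (.tail _ (.tail _ (.tail _ (.tail _ (.tail _ (.head _)))))))))))))))))))))))

theorem i58 : M.In lk t58 :=
  u0 H _ (.tail _ (.tail _ (.tail _ (.tail _ (.tail _ (.tail _ (.tail _ (.tail _ (.tail _ (.tail _ (.tail _ (.tail _ (.tail _ (.tail _ (.tail _ (.tail _ (.tail _ (.tail _ (.tail _ (.tail _ (.tail _ (.tail _ (.tail _ (.head _))))))))))))))))))))))))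

theorem i59 : M.In lk t59 :=
  u0 H _ (.tail _ (.tail _ (.tail _ (.tail _ (.tail _ (.tail _ (.tail _ (.tail _ (.tail _ (.tail _ (.tail _ (.tail _ (.tail _ (.tail _ (.tail _ (.tail _ (.tail _ (.tail _ (.tail _ (.tail _ (.tail _ (.tail _ (.tail _ (.tail _ (.head _)))))))))))))))))))))))))

theorem i60 : M.In lk t60 :=
  u0 H _ (.tail _ (.tail _ (.tail _ (.tail _ (.tail _ (.tail _ (.tail _ (.tail _ (.tail _ (.tail _ (.tail _ (.tail _ (.tail _ (.tail _ (.tail _ (.tail _ (.tail _ (.tail _ (.tail _ (.tail _ (.tail _ (.tail _ (.tail _ (.tail _ (.tail _ (.head _))))))))))))))))))))))))))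

theorem i61 : M.In lk t61 :=
  u0 H _ (.tail _ (.tail _ (.tail _ (.tail _ (.tail _ (.tail _ (.tail _ (.tail _ (.tail _ (.tail _ (.tail _ (.tail _ (.tail _ (.tail _ (.tail _ (.tail _ (.tail _ (.tail _ (.tail _ (.tail _ (.tail _ (.tail _ (.tail _ (.tail _ (.tail _ (.tail _ (.head _)))))))))))))))))))))))))))

theorem i62 : M.In lk t62 :=
  u0 H _ (.tail _ (.tail _ (.tail _ (.tail _ (.tail _ (.tail _ (.tail _ (.tail _ (.tail _ (.tail _ (.tail _ (.tail _ (.tail _ (.tail _ (.tail _ (.tail _ (.tail _ (.tail _ (.tail _ (.tail _ (.tail _ (.tail _ (.tail _ (.tail _ (.tail _ (.tail _ (.tail _ (.head _))))))))))))))))))))))))))))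

theorem i63 : M.In lk t63 :=
  u0 H _ (.tail _ (.tail _ (.tail _ (.tail _ (.tail _ (.tail _ (.tail _ (.tail _ (.tail _ (.tail _ (.tail _ (.tail _ (.tail _ (.tail _ (.tail _ (.tail _ (.tail _ (.tail _ (.tail _ (.tail _ (.tail _ (.tail _ (.tail _ (.tail _ (.tail _ (.tail _ (.tail _ (.tail _ (.head _)))))))))))))))))))))))))))))

theorem i64 : M.In lk t64 :=
  u0 H _ (.tail _ (.tail _ (.tail _ (.tail _ (.tail _ (.tail _ (.tail _ (.tail _ (.tail _ (.tail _ (.tail _ (.tail _ (.tail _ (.tail _ (.tail _ (.tail _ (.tail _ (.tail _ (.tail _ (.tail _ (.tail _ (.tail _ (.tail _ (.tail _ (.tail _ (.tail _ (.tail _ (.tail _ (.tail _ (.head _))))))))))))))))))))))))))))))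

theorem i65 : M.In lk t65 :=
  u0 H _ (.tail _ (.tail _ (.tail _ (.tail _ (.tail _ (.tail _ (.tail _ (.tail _ (.tail _ (.tail _ (.tail _ (.tail _ (.tail _ (.tail _ (.tail _ (.tail _ (.tail _ (.tail _ (.tail _ (.tail _ (.tail _ (.tail _ (.tail _ (.tail _ (.tail _ (.tail _ (.tail _ (.tail _ (.tail _ (.tail _ (.head _)))))))))))))))))))))))))))))))

theorem i66 : M.In lk t66 :=
  u0 H _ (.tail _ (.tail _ (.tail _ (.tail _ (.tail _ (.tail _ (.tail _ (.tail _ (.tail _ (.tail _ (.tail _ (.tail _ (.tail _ (.tail _ (.tail _ (.tail _ (.tail _ (.tail _ (.tail _ (.tail _ (.tail _ (.tail _ (.tail _ (.tail _ (.tail _ (.tail _ (.tail _ (.tail _ (.tail _ (.tail _ (.tail _ (.head _))))))))))))))))))))))))))))))))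

theorem i67 : M.In lk t67 :=
  u0 H _ (.tail _ (.tail _ (.tail _ (.tail _ (.tail _ (.tail _ (.tail _ (.tail _ (.tail _ (.tail _ (.tail _ (.tail _ (.tail _ (.tail _ (.tail _ (.tail _ (.tail _ (.tail _ (.tail _ (.tail _ (.tail _ (.tail _ (.tail _ (.tail _ (.tail _ (.tail _ (.tail _ (.tail _ (.tail _ (.tail _ (.tail _ (.tail _ (.head _)))))))))))))))))))))))))))))))))

theorem i68 : M.In lk t68 :=
  u0 H _ (.tail _ (.tail _ (.tail _ (.tail _ (.tail _ (.tail _ (.tail _ (.tail _ (.tail _ (.tail _ (.tail _ (.tail _ (.tail _ (.tail _ (.tail _ (.tail _ (.tail _ (.tail _ (.tail _ (.tail _ (.tail _ (.tail _ (.tail _ (.tail _ (.tail _ (.tail _ (.tail _ (.tail _ (.tail _ (.tail _ (.tail _ (.tail _ (.tail _ (.head _))))))))))))))))))))))))))))))))))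

theorem i69 : M.In lk t69 :=
  u0 H _ (.tail _ (.tail _ (.tail _ (.tail _ (.tail _ (.tail _ (.tail _ (.tail _ (.tail _ (.tail _ (.tail _ (.tail _ (.tail _ (.tail _ (.tail _ (.tail _ (.tail _ (.tail _ (.tail _ (.tail _ (.tail _ (.tail _ (.tail _ (.tail _ (.tail _ (.tail _ (.tail _ (.tail _ (.tail _ (.tail _ (.tail _ (.tail _ (.tail _ (.tail _ (.head _)))))))))))))))))))))))))))))))))))

theorem i70 : M.In lk t70 :=
  u0 H _ (.tail _ (.tail _ (.tail _ (.tail _ (.tail _ (.tail _ (.tail _ (.tail _ (.tail _ (.tail _ (.tail _ (.tail _ (.tail _ (.tail _ (.tail _ (.tail _ (.tail _ (.tail _ (.tail _ (.tail _ (.tail _ (.tail _ (.tail _ (.tail _ (.tail _ (.tail _ (.tail _ (.tail _ (.tail _ (.tail _ (.tail _ (.tail _ (.tail _ (.tail _ (.tail _ (.head _))))))))))))))))))))))))))))))))))))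

theorem i71 : M.In lk t71 :=
  u0 H _ (.tail _ (.tail _ (.tail _ (.tail _ (.tail _ (.tail _ (.tail _ (.tail _ (.tail _ (.tail _ (.tail _ (.tail _ (.tail _ (.tail _ (.tail _ (.tail _ (.tail _ (.tail _ (.tail _ (.tail _ (.tail _ (.tail _ (.tail _ (.tail _ (.tail _ (.tail _ (.tail _ (.tail _ (.tail _ (.tail _ (.tail _ (.tail _ (.tail _ (.tail _ (.tail _ (.tail _ (.head _)))))))))))))))))))))))))))))))))))))

theorem i72 : M.In lk t72 :=
  u0 H _ (.tail _ (.tail _ (.tail _ (.tail _ (.tail _ (.tail _ (.tail _ (.tail _ (.tail _ (.tail _ (.tail _ (.tail _ (.tail _ (.tail _ (.tail _ (.tail _ (.tail _ (.tail _ (.tail _ (.tail _ (.tail _ (.tail _ (.tail _ (.tail _ (.tail _ (.tail _ (.tail _ (.tail _ (.tail _ (.tail _ (.tail _ (.tail _ (.tail _ (.tail _ (.tail _ (.tail _ (.tail _ (.head _))))))))))))))))))))))))))))))))))))))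

theorem i73 : M.In lk t73 :=
  u0 H _ (.tail _ (.tail _ (.tail _ (.tail _ (.tail _ (.tail _ (.tail _ (.tail _ (.tail _ (.tail _ (.tail _ (.tail _ (.tail _ (.tail _ (.tail _ (.tail _ (.tail _ (.tail _ (.tail _ (.tail _ (.tail _ (.tail _ (.tail _ (.tail _ (.tail _ (.tail _ (.tail _ (.tail _ (.tail _ (.tail _ (.tail _ (.tail _ (.tail _ (.tail _ (.tail _ (.tail _ (.tail _ (.tail _ (.head _)))))))))))))))))))))))))))))))))))))))

theorem i74 : M.In lk t74 :=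
  u0 H _ (.tail _ (.tail _ (.tail _ (.tail _ (.tail _ (.tail _ (.tail _ (.tail _ (.tail _ (.tail _ (.tail _ (.tail _ (.tail _ (.tail _ (.tail _ (.tail _ (.tail _ (.tail _ (.tail _ (.tail _ (.tail _ (.tail _ (.tail _ (.tail _ (.tail _ (.tail _ (.tail _ (.tail _ (.tail _ (.tail _ (.tail _ (.tail _ (.tail _ (.tail _ (.tail _ (.tail _ (.tail _ (.tail _ (.tail _ (.head _))))))))))))))))))))))))))))))))))))))))

theorem i75 : M.In lk t75 :=
  u0 H _ (.tail _ (.tail _ (.tail _ (.tail _ (.tail _ (.tail _ (.tail _ (.tail _ (.tail _ (.tail _ (.tail _ (.tail _ (.tail _ (.tail _ (.tail _ (.tail _ (.tail _ (.tail _ (.tail _ (.tail _ (.tail _ (.tail _ (.tail _ (.tail _ (.tail _ (.tail _ (.tail _ (.tail _ (.tail _ (.tail _ (.tail _ (.tail _ (.tail _ (.tail _ (.tail _ (.tail _ (.tail _ (.tail _ (.tail _ (.tail _ (.head _)))))))))))))))))))))))))))))))))))))))))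

theorem i76 : M.In lk t76 :=
  u0 H _ (.tail _ (.tail _ (.tail _ (.tail _ (.tail _ (.tail _ (.tail _ (.tail _ (.tail _ (.tail _ (.tail _ (.tail _ (.tail _ (.tail _ (.tail _ (.tail _ (.tail _ (.tail _ (.tail _ (.tail _ (.tail _ (.tail _ (.tail _ (.tail _ (.tail _ (.tail _ (.tail _ (.tail _ (.tail _ (.tail _ (.tail _ (.tail _ (.tail _ (.tail _ (.tail _ (.tail _ (.tail _ (.tail _ (.tail _ (.tail _ (.tail _ (.head _))))))))))))))))))))))))))))))))))))))))))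

theorem i77 : M.In lk t77 :=
  u0 H _ (.tail _ (.tail _ (.tail _ (.tail _ (.tail _ (.tail _ (.tail _ (.tail _ (.tail _ (.tail _ (.tail _ (.tail _ (.tail _ (.tail _ (.tail _ (.tail _ (.tail _ (.tail _ (.tail _ (.tail _ (.tail _ (.tail _ (.tail _ (.tail _ (.tail _ (.tail _ (.tail _ (.tail _ (.tail _ (.tail _ (.tail _ (.tail _ (.tail _ (.tail _ (.tail _ (.tail _ (.tail _ (.tail _ (.tail _ (.tail _ (.tail _ (.tail _ (.head _)))))))))))))))))))))))))))))))))))))))))))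

theorem i78 : M.In lk t78 :=
  u0 H _ (.tail _ (.tail _ (.tail _ (.tail _ (.tail _ (.tail _ (.tail _ (.tail _ (.tail _ (.tail _ (.tail _ (.tail _ (.tail _ (.tail _ (.tail _ (.tail _ (.tail _ (.tail _ (.tail _ (.tail _ (.tail _ (.tail _ (.tail _ (.tail _ (.tail _ (.tail _ (.tail _ (.tail _ (.tail _ (.tail _ (.tail _ (.tail _ (.tail _ (.tail _ (.tail _ (.tail _ (.tail _ (.tail _ (.tail _ (.tail _ (.tail _ (.tail _ (.tail _ (.head _))))))))))))))))))))))))))))))))))))))))))))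

theorem i79 : M.In lk t79 :=
  u0 H _ (.tail _ (.tail _ (.tail _ (.tail _ (.tail _ (.tail _ (.tail _ (.tail _ (.tail _ (.tail _ (.tail _ (.tail _ (.tail _ (.tail _ (.tail _ (.tail _ (.tail _ (.tail _ (.tail _ (.tail _ (.tail _ (.tail _ (.tail _ (.tail _ (.tail _ (.tail _ (.tail _ (.tail _ (.tail _ (.tail _ (.tail _ (.tail _ (.tail _ (.tail _ (.tail _ (.tail _ (.tail _ (.tail _ (.tail _ (.tail _ (.tail _ (.tail _ (.tail _ (.tail _ (.head _)))))))))))))))))))))))))))))))))))))))))))))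

theorem i80 : M.In lk t80 :=
  u0 H _ (.tail _ (.tail _ (.tail _ (.tail _ (.tail _ (.tail _ (.tail _ (.tail _ (.tail _ (.tail _ (.tail _ (.tail _ (.tail _ (.tail _ (.tail _ (.tail _ (.tail _ (.tail _ (.tail _ (.tail _ (.tail _ (.tail _ (.tail _ (.tail _ (.tail _ (.tail _ (.tail _ (.tail _ (.tail _ (.tail _ (.tail _ (.tail _ (.tail _ (.tail _ (.tail _ (.tail _ (.tail _ (.tail _ (.tail _ (.tail _ (.tail _ (.tail _ (.tail _ (.tail _ (.tail _ (.head _))))))))))))))))))))))))))))))))))))))))))))))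

theorem i81 : M.In lk t81 :=
  u0 H _ (.tail _ (.tail _ (.tail _ (.tail _ (.tail _ (.tail _ (.tail _ (.tail _ (.tail _ (.tail _ (.tail _ (.tail _ (.tail _ (.tail _ (.tail _ (.tail _ (.tail _ (.tail _ (.tail _ (.tail _ (.tail _ (.tail _ (.tail _ (.tail _ (.tail _ (.tail _ (.tail _ (.tail _ (.tail _ (.tail _ (.tail _ (.tail _ (.tail _ (.tail _ (.tail _ (.tail _ (.tail _ (.tail _ (.tail _ (.tail _ (.tail _ (.tail _ (.tail _ (.tail _ (.tail _ (.tail _ (.head _)))))))))))))))))))))))))))))))))))))))))))))))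

theorem i82 : M.In lk t82 :=
  u0 H _ (.tail _ (.tail _ (.tail _ (.tail _ (.tail _ (.tail _ (.tail _ (.tail _ (.tail _ (.tail _ (.tail _ (.tail _ (.tail _ (.tail _ (.tail _ (.tail _ (.tail _ (.tail _ (.tail _ (.tail _ (.tail _ (.tail _ (.tail _ (.tail _ (.tail _ (.tail _ (.tail _ (.tail _ (.tail _ (.tail _ (.tail _ (.tail _ (.tail _ (.tail _ (.tail _ (.tail _ (.tail _ (.tail _ (.tail _ (.tail _ (.tail _ (.tail _ (.tail _ (.tail _ (.tail _ (.tail _ (.tail _ (.head _))))))))))))))))))))))))))))))))))))))))))))))))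

theorem i83 : M.In lk t83 :=
  u0 H _ (.tail _ (.tail _ (.tail _ (.tail _ (.tail _ (.tail _ (.tail _ (.tail _ (.tail _ (.tail _ (.tail _ (.tail _ (.tail _ (.tail _ (.tail _ (.tail _ (.tail _ (.tail _ (.tail _ (.tail _ (.tail _ (.tail _ (.tail _ (.tail _ (.tail _ (.tail _ (.tail _ (.tail _ (.tail _ (.tail _ (.tail _ (.tail _ (.tail _ (.tail _ (.tail _ (.tail _ (.tail _ (.tail _ (.tail _ (.tail _ (.tail _ (.tail _ (.tail _ (.tail _ (.tail _ (.tail _ (.tail _ (.tail _ (.head _)))))))))))))))))))))))))))))))))))))))))))))))))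

theorem i84 : M.In lk t84 :=
  u0 H _ (.tail _ (.tail _ (.tail _ (.tail _ (.tail _ (.tail _ (.tail _ (.tail _ (.tail _ (.tail _ (.tail _ (.tail _ (.tail _ (.tail _ (.tail _ (.tail _ (.tail _ (.tail _ (.tail _ (.tail _ (.tail _ (.tail _ (.tail _ (.tail _ (.tail _ (.tail _ (.tail _ (.tail _ (.tail _ (.tail _ (.tail _ (.tail _ (.tail _ (.tail _ (.tail _ (.tail _ (.tail _ (.tail _ (.tail _ (.tail _ (.tail _ (.tail _ (.tail _ (.tail _ (.tail _ (.tail _ (.tail _ (.tail _ (.tail _ (.head _))))))))))))))))))))))))))))))))))))))))))))))))))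

theorem i85 : M.In lk t85 :=
  u0 H _ (.tail _ (.tail _ (.tail _ (.tail _ (.tail _ (.tail _ (.tail _ (.tail _ (.tail _ (.tail _ (.tail _ (.tail _ (.tail _ (.tail _ (.tail _ (.tail _ (.tail _ (.tail _ (.tail _ (.tail _ (.tail _ (.tail _ (.tail _ (.tail _ (.tail _ (.tail _ (.tail _ (.tail _ (.tail _ (.tail _ (.tail _ (.tail _ (.tail _ (.tail _ (.tail _ (.tail _ (.tail _ (.tail _ (.tail _ (.tail _ (.tail _ (.tail _ (.tail _ (.tail _ (.tail _ (.tail _ (.tail _ (.tail _ (.tail _ (.tail _ (.head _)))))))))))))))))))))))))))))))))))))))))))))))))))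

theorem i86 : M.In lk t86 :=
  u0 H _ (.tail _ (.tail _ (.tail _ (.tail _ (.tail _ (.tail _ (.tail _ (.tail _ (.tail _ (.tail _ (.tail _ (.tail _ (.tail _ (.tail _ (.tail _ (.tail _ (.tail _ (.tail _ (.tail _ (.tail _ (.tail _ (.tail _ (.tail _ (.tail _ (.tail _ (.tail _ (.tail _ (.tail _ (.tail _ (.tail _ (.tail _ (.tail _ (.tail _ (.tail _ (.tail _ (.tail _ (.tail _ (.tail _ (.tail _ (.tail _ (.tail _ (.tail _ (.tail _ (.tail _ (.tail _ (.tail _ (.tail _ (.tail _ (.tail _ (.tail _ (.tail _ (.head _))))))))))))))))))))))))))))))))))))))))))))))))))))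

theorem i87 : M.In lk t87 :=
  u0 H _ (.tail _ (.tail _ (.tail _ (.tail _ (.tail _ (.tail _ (.tail _ (.tail _ (.tail _ (.tail _ (.tail _ (.tail _ (.tail _ (.tail _ (.tail _ (.tail _ (.tail _ (.tail _ (.tail _ (.tail _ (.tail _ (.tail _ (.tail _ (.tail _ (.tail _ (.tail _ (.tail _ (.tail _ (.tail _ (.tail _ (.tail _ (.tail _ (.tail _ (.tail _ (.tail _ (.tail _ (.tail _ (.tail _ (.tail _ (.tail _ (.tail _ (.tail _ (.tail _ (.tail _ (.tail _ (.tail _ (.tail _ (.tail _ (.tail _ (.tail _ (.tail _ (.tail _ (.head _)))))))))))))))))))))))))))))))))))))))))))))))))))))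

theorem i88 : M.In lk t88 :=
  u0 H _ (.tail _ (.tail _ (.tail _ (.tail _ (.tail _ (.tail _ (.tail _ (.tail _ (.tail _ (.tail _ (.tail _ (.tail _ (.tail _ (.tail _ (.tail _ (.tail _ (.tail _ (.tail _ (.tail _ (.tail _ (.tail _ (.tail _ (.tail _ (.tail _ (.tail _ (.tail _ (.tail _ (.tail _ (.tail _ (.tail _ (.tail _ (.tail _ (.tail _ (.tail _ (.tail _ (.tail _ (.tail _ (.tail _ (.tail _ (.tail _ (.tail _ (.tail _ (.tail _ (.tail _ (.tail _ (.tail _ (.tail _ (.tail _ (.tail _ (.tail _ (.tail _ (.tail _ (.tail _ (.head _))))))))))))))))))))))))))))))))))))))))))))))))))))))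

theorem i89 : M.In lk t89 :=
  u0 H _ (.tail _ (.tail _ (.tail _ (.tail _ (.tail _ (.tail _ (.tail _ (.tail _ (.tail _ (.tail _ (.tail _ (.tail _ (.tail _ (.tail _ (.tail _ (.tail _ (.tail _ (.tail _ (.tail _ (.tail _ (.tail _ (.tail _ (.tail _ (.tail _ (.tail _ (.tail _ (.tail _ (.tail _ (.tail _ (.tail _ (.tail _ (.tail _ (.tail _ (.tail _ (.tail _ (.tail _ (.tail _ (.tail _ (.tail _ (.tail _ (.tail _ (.tail _ (.tail _ (.tail _ (.tail _ (.tail _ (.tail _ (.tail _ (.tail _ (.tail _ (.tail _ (.tail _ (.tail _ (.tail _ (.head _)))))))))))))))))))))))))))))))))))))))))))))))))))))))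

theorem i90 : M.In lk t90 :=
  u0 H _ (.tail _ (.tail _ (.tail _ (.tail _ (.tail _ (.tail _ (.tail _ (.tail _ (.tail _ (.tail _ (.tail _ (.tail _ (.tail _ (.tail _ (.tail _ (.tail _ (.tail _ (.tail _ (.tail _ (.tail _ (.tail _ (.tail _ (.tail _ (.tail _ (.tail _ (.tail _ (.tail _ (.tail _ (.tail _ (.tail _ (.tail _ (.tail _ (.tail _ (.tail _ (.tail _ (.tail _ (.tail _ (.tail _ (.tail _ (.tail _ (.tail _ (.tail _ (.tail _ (.tail _ (.tail _ (.tail _ (.tail _ (.tail _ (.tail _ (.tail _ (.tail _ (.tail _ (.tail _ (.tail _ (.tail _ (.head _))))))))))))))))))))))))))))))))))))))))))))))))))))))))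

theorem i91 : M.In lk t91 :=
  u0 H _ (.tail _ (.tail _ (.tail _ (.tail _ (.tail _ (.tail _ (.tail _ (.tail _ (.tail _ (.tail _ (.tail _ (.tail _ (.tail _ (.tail _ (.tail _ (.tail _ (.tail _ (.tail _ (.tail _ (.tail _ (.tail _ (.tail _ (.tail _ (.tail _ (.tail _ (.tail _ (.tail _ (.tail _ (.tail _ (.tail _ (.tail _ (.tail _ (.tail _ (.tail _ (.tail _ (.tail _ (.tail _ (.tail _ (.tail _ (.tail _ (.tail _ (.tail _ (.tail _ (.tail _ (.tail _ (.tail _ (.tail _ (.tail _ (.tail _ (.tail _ (.tail _ (.tail _ (.tail _ (.tail _ (.tail _ (.tail _ (.head _)))))))))))))))))))))))))))))))))))))))))))))))))))))))))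

theorem i92 : M.In lk t92 :=
  u0 H _ (.tail _ (.tail _ (.tail _ (.tail _ (.tail _ (.tail _ (.tail _ (.tail _ (.tail _ (.tail _ (.tail _ (.tail _ (.tail _ (.tail _ (.tail _ (.tail _ (.tail _ (.tail _ (.tail _ (.tail _ (.tail _ (.tail _ (.tail _ (.tail _ (.tail _ (.tail _ (.tail _ (.tail _ (.tail _ (.tail _ (.tail _ (.tail _ (.tail _ (.tail _ (.tail _ (.tail _ (.tail _ (.tail _ (.tail _ (.tail _ (.tail _ (.tail _ (.tail _ (.tail _ (.tail _ (.tail _ (.tail _ (.tail _ (.tail _ (.tail _ (.tail _ (.tail _ (.tail _ (.tail _ (.tail _ (.tail _ (.tail _ (.head _))))))))))))))))))))))))))))))))))))))))))))))))))))))))))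

theorem i93 : M.In lk t93 :=
  u0 H _ (.tail _ (.tail _ (.tail _ (.tail _ (.tail _ (.tail _ (.tail _ (.tail _ (.tail _ (.tail _ (.tail _ (.tail _ (.tail _ (.tail _ (.tail _ (.tail _ (.tail _ (.tail _ (.tail _ (.tail _ (.tail _ (.tail _ (.tail _ (.tail _ (.tail _ (.tail _ (.tail _ (.tail _ (.tail _ (.tail _ (.tail _ (.tail _ (.tail _ (.tail _ (.tail _ (.tail _ (.tail _ (.tail _ (.tail _ (.tail _ (.tail _ (.tail _ (.tail _ (.tail _ (.tail _ (.tail _ (.tail _ (.tail _ (.tail _ (.tail _ (.tail _ (.tail _ (.tail _ (.tail _ (.tail _ (.tail _ (.tail _ (.tail _ (.head _)))))))))))))))))))))))))))))))))))))))))))))))))))))))))))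

theorem i94 : M.In lk t94 :=
  u0 H _ (.tail _ (.tail _ (.tail _ (.tail _ (.tail _ (.tail _ (.tail _ (.tail _ (.tail _ (.tail _ (.tail _ (.tail _ (.tail _ (.tail _ (.tail _ (.tail _ (.tail _ (.tail _ (.tail _ (.tail _ (.tail _ (.tail _ (.tail _ (.tail _ (.tail _ (.tail _ (.tail _ (.tail _ (.tail _ (.tail _ (.tail _ (.tail _ (.tail _ (.tail _ (.tail _ (.tail _ (.tail _ (.tail _ (.tail _ (.tail _ (.tail _ (.tail _ (.tail _ (.tail _ (.tail _ (.tail _ (.tail _ (.tail _ (.tail _ (.tail _ (.tail _ (.tail _ (.tail _ (.tail _ (.tail _ (.tail _ (.tail _ (.tail _ (.tail _ (.head _))))))))))))))))))))))))))))))))))))))))))))))))))))))))))))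

theorem i95 : M.In lk t95 :=
  u0 H _ (.tail _ (.tail _ (.tail _ (.tail _ (.tail _ (.tail _ (.tail _ (.tail _ (.tail _ (.tail _ (.tail _ (.tail _ (.tail _ (.tail _ (.tail _ (.tail _ (.tail _ (.tail _ (.tail _ (.tail _ (.tail _ (.tail _ (.tail _ (.tail _ (.tail _ (.tail _ (.tail _ (.tail _ (.tail _ (.tail _ (.tail _ (.tail _ (.tail _ (.tail _ (.tail _ (.tail _ (.tail _ (.tail _ (.tail _ (.tail _ (.tail _ (.tail _ (.tail _ (.tail _ (.tail _ (.tail _ (.tail _ (.tail _ (.tail _ (.tail _ (.tail _ (.tail _ (.tail _ (.tail _ (.tail _ (.tail _ (.tail _ (.tail _ (.tail _ (.tail _ (.head _)))))))))))))))))))))))))))))))))))))))))))))))))))))))))))))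

theorem i96 : M.In lk t96 :=
  u0 H _ (.tail _ (.tail _ (.tail _ (.tail _ (.tail _ (.tail _ (.tail _ (.tail _ (.tail _ (.tail _ (.tail _ (.tail _ (.tail _ (.tail _ (.tail _ (.tail _ (.tail _ (.tail _ (.tail _ (.tail _ (.tail _ (.tail _ (.tail _ (.tail _ (.tail _ (.tail _ (.tail _ (.tail _ (.tail _ (.tail _ (.tail _ (.tail _ (.tail _ (.tail _ (.tail _ (.tail _ (.tail _ (.tail _ (.tail _ (.tail _ (.tail _ (.tail _ (.tail _ (.tail _ (.tail _ (.tail _ (.tail _ (.tail _ (.tail _ (.tail _ (.tail _ (.tail _ (.tail _ (.tail _ (.tail _ (.tail _ (.tail _ (.tail _ (.tail _ (.tail _ (.tail _ (.head _))))))))))))))))))))))))))))))))))))))))))))))))))))))))))))))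

theorem i97 : M.In lk t97 :=
  u0 H _ (.tail _ (.tail _ (.tail _ (.tail _ (.tail _ (.tail _ (.tail _ (.tail _ (.tail _ (.tail _ (.tail _ (.tail _ (.tail _ (.tail _ (.tail _ (.tail _ (.tail _ (.tail _ (.tail _ (.tail _ (.tail _ (.tail _ (.tail _ (.tail _ (.tail _ (.tail _ (.tail _ (.tail _ (.tail _ (.tail _ (.tail _ (.tail _ (.tail _ (.tail _ (.tail _ (.tail _ (.tail _ (.tail _ (.tail _ (.tail _ (.tail _ (.tail _ (.tail _ (.tail _ (.tail _ (.tail _ (.tail _ (.tail _ (.tail _ (.tail _ (.tail _ (.tail _ (.tail _ (.tail _ (.tail _ (.tail _ (.tail _ (.tail _ (.tail _ (.tail _ (.tail _ (.tail _ (.head _)))))))))))))))))))))))))))))))))))))))))))))))))))))))))))))))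

theorem i98 : M.In lk t98 :=
  u0 H _ (.tail _ (.tail _ (.tail _ (.tail _ (.tail _ (.tail _ (.tail _ (.tail _ (.tail _ (.tail _ (.tail _ (.tail _ (.tail _ (.tail _ (.tail _ (.tail _ (.tail _ (.tail _ (.tail _ (.tail _ (.tail _ (.tail _ (.tail _ (.tail _ (.tail _ (.tail _ (.tail _ (.tail _ (.tail _ (.tail _ (.tail _ (.tail _ (.tail _ (.tail _ (.tail _ (.tail _ (.tail _ (.tail _ (.tail _ (.tail _ (.tail _ (.tail _ (.tail _ (.tail _ (.tail _ (.tail _ (.tail _ (.tail _ (.tail _ (.tail _ (.tail _ (.tail _ (.tail _ (.tail _ (.tail _ (.tail _ (.tail _ (.tail _ (.tail _ (.tail _ (.tail _ (.tail _ (.tail _ (.head _))))))))))))))))))))))))))))))))))))))))))))))))))))))))))))))))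

theorem g2p0 : PcG M lk g2_0_14 16384 :=
  pcg_of (hB H) (fa_cons (⟨i35 H, i36 H⟩) (fa_cons (⟨i37 H, i38 H⟩) (fa_cons (⟨i39 H, i40 H⟩) (fa_cons (⟨i41 H, i42 H⟩) (fa_cons (⟨i43 H, i44 H⟩) (fa_cons (⟨i45 H, i46 H⟩) (fa_cons (⟨i47 H, i48 H⟩) (fa_cons (⟨i49 H, i50 H⟩) (fa_cons (⟨i51 H, i52 H⟩) (fa_cons (⟨i53 H, i54 H⟩) (fa_cons (⟨i55 H, i56 H⟩) (fa_cons (⟨i57 H, i58 H⟩) (fa_cons (⟨i59 H, i60 H⟩) (fa_cons (⟨i61 H, i62 H⟩) fa_nil)))))))))))))) c4 c5 (E := g2E) rfl c6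

theorem g3p1 : PcG M lk g3_1_6 108 :=
  pcg_of (hB H) (fa_cons (⟨i63 H, i64 H⟩) (fa_cons (⟨i65 H, i66 H⟩) (fa_cons (⟨i67 H, i68 H⟩) (fa_cons (⟨i69 H, i70 H⟩) (fa_cons (⟨i71 H, i72 H⟩) fa_nil))))) c7 c8 (E := g3E) rfl c9

theorem g5p3 : PcG M lk g5_3_6 125 :=
  pcg_of (hB H) (fa_cons (⟨i73 H, i74 H⟩) (fa_cons (⟨i75 H, i76 H⟩) (fa_cons (⟨i77 H, i78 H⟩) fa_nil))) c10 c11 (E := g5E) rfl c12

theorem g7p0 : PcG M lk g7_0_3 42 :=
  pcg_of (hB H) (fa_cons (⟨i79 H, i80 H⟩) (fa_cons (⟨i81 H, i82 H⟩) (fa_cons (⟨i83 H, i84 H⟩) fa_nil))) c13 c14 (E := g7E) rfl c15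

theorem g29p0 : PcG M lk g29_0_3 406 :=
  pcg_of (hB H) (fa_cons (⟨i85 H, i86 H⟩) (fa_cons (⟨i87 H, i88 H⟩) (fa_cons (⟨i89 H, i90 H⟩) fa_nil))) c16 c17 (E := g29E) rfl c18

theorem g3p2 : PcG M lk g3_2_6 54 :=
  (g3p1 H).right (A := g3_1_2) rfl (by decide +kernel)

theorem dn0 : Dn (M.el lk t91) 2 54 :=
  (g3p2 H).dnS (tab M) (nsC_ok (hB H) _) (i91 H) (Upto.zero) c21

theorem ok0 : Rc.Ok ⟨2, 2, 54, 245760⟩ (M.el lk t91) :=
  rc_ok (hB H) (i91 H) (by norm_num) c19 (dn0 H) (by norm_num) (norm_ge (hB H) (hE H) (i91 H) c20)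

theorem dn1 : Dn (M.el lk t92) 2 42 :=
  (g7p0 H).dnS (tab M) (nsC_ok (hB H) _) (i92 H) (Upto.zero) c24

theorem ok1 : Rc.Ok ⟨2, 2, 42, 116480⟩ (M.el lk t92) :=
  rc_ok (hB H) (i92 H) (by norm_num) c22 (dn1 H) (by norm_num) (norm_ge (hB H) (hE H) (i92 H) c23)

theorem dn2 : Dn (M.el lk t93) 1 54 :=
  (g3p2 H).dnP (A := g3_2_4) (R := g3_4_6) rfl (tab M) (nsC_ok (hB H) _) (i93 H) (Upto.zero) c27

theorem ok2 : Rc.Ok ⟨3, 1, 54, 4320⟩ (M.el lk t93) :=
  rc_ok (hB H) (i93 H) (by norm_num) c25 (dn2 H) (by norm_num) (norm_ge (hB H) (hE H) (i93 H) c26)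

theorem dn3 : Dn (M.el lk t94) 1 108 :=
  (g3p1 H).dnP (A := g3_1_4) (R := g3_4_6) rfl (tab M) (nsC_ok (hB H) _) (i94 H) (Upto.zero) c30

theorem ok3 : Rc.Ok ⟨5, 1, 108, 1200⟩ (M.el lk t94) :=
  rc_ok (hB H) (i94 H) (by norm_num) c28 (dn3 H) (by norm_num) (norm_ge (hB H) (hE H) (i94 H) c29)

theorem g2p8 : PcG M lk g2_8_14 64 :=
  (g2p0 H).right (A := g2_0_8) rfl (by decide +kernel)

theorem dn4 : Dn (M.el lk t95) 1 64 :=
  (g2p8 H).dnP (A := g2_8_11) (R := g2_11_14) rfl (tab M) (nsC_ok (hB H) _) (i95 H) (Upto.zero) c33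

theorem ok4 : Rc.Ok ⟨5, 1, 64, 4000⟩ (M.el lk t95) :=
  rc_ok (hB H) (i95 H) (by norm_num) c31 (dn4 H) (by norm_num) (norm_ge (hB H) (hE H) (i95 H) c32)

theorem dn5 : Dn (M.el lk t96) 1 125 :=
  (g5p3 H).dnP (A := g5_3_4) (R := g5_4_6) rfl (tab M) (nsC_ok (hB H) _) (i96 H) (Upto.zero) c36

theorem ok5 : Rc.Ok ⟨7, 1, 125, 168⟩ (M.el lk t96) :=
  rc_ok (hB H) (i96 H) (by norm_num) c34 (dn5 H) (by norm_num) (norm_ge (hB H) (hE H) (i96 H) c35)

theorem dn6 : Dn (M.el lk t97) 1 406 :=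
  (g29p0 H).dnP (A := g29_0_2) (R := g29_2_3) rfl (tab M) (nsC_ok (hB H) _) (i97 H) (Upto.zero) c39

theorem ok6 : Rc.Ok ⟨13, 1, 406, 624⟩ (M.el lk t97) :=
  rc_ok (hB H) (i97 H) (by norm_num) c37 (dn6 H) (by norm_num) (norm_ge (hB H) (hE H) (i97 H) c38)

theorem dn7 : Dn (M.el lk t98) 1 406 :=
  (g29p0 H).dnP (A := g29_0_2) (R := g29_2_3) rfl (tab M) (nsC_ok (hB H) _) (i98 H) (Upto.zero) c42

theorem ok7 : Rc.Ok ⟨29, 1, 406, 406⟩ (M.el lk t98) :=
  rc_ok (hB H) (i98 H) (by norm_num) c40 (dn7 H) (by norm_num) (norm_ge (hB H) (hE H) (i98 H) c41)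

theorem cov2 : Cov M lk 2 r2 :=
  (g2p0 H).cov (hB H) (A := g2_0_0) (R := g2_0_14) (d := 8906625) (a := 1) rfl (by norm_num) (hB0 H).2 (by decide +kernel) (hE H)
    (AllIn.cons (i91 H) (AllIn.cons (i92 H) AllIn.nil)) c43 (cls := cl2) rfl
    (show ∀ c ∈ [0], _ from (fa_cons (⟨_, c44⟩) fa_nil))

theorem g3p3 : PcG M lk g3_3_6 27 :=
  (g3p1 H).right (A := g3_1_3) rfl (by decide +kernel)

theorem cov3 : Cov M lk 3 r3 :=
  (g3p3 H).cov (hB H) (A := g3_3_3) (R := g3_3_6) (d := 5404672000) (a := 1) rfl (by norm_num) (hB0 H).2 (by decide +kernel) (hE H)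
    (AllIn.cons (i93 H) AllIn.nil) c45 (cls := cl3) rfl
    (show ∀ c ∈ [0], _ from (fa_cons (⟨_, c46⟩) fa_nil))

theorem cov5 : Cov M lk 5 r5 :=
  (g5p3 H).cov (hB H) (A := g5_3_3) (R := g5_3_6) (d := 1167409152) (a := 1) rfl (by norm_num) (hB0 H).2 (by decide +kernel) (hE H)
    (AllIn.cons (i94 H) (AllIn.cons (i95 H) AllIn.nil)) c47 (cls := cl5) rfl
    (show ∀ c ∈ [0], _ from (fa_cons (⟨_, c48⟩) fa_nil))

theorem cov7 : Cov M lk 7 r7 :=
  cov_of_prime (d := 20846592000) (by norm_num) (ok5 H).ord ((hB0 H).2.trans (by norm_num)) (by norm_num)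

theorem cov13 : Cov M lk 13 r13 :=
  cov_of_prime (d := 11225088000) (by norm_num) (ok6 H).ord ((hB0 H).2.trans (by norm_num)) (by norm_num)

theorem cov29 : Cov M lk 29 r29 :=
  cov_of_prime (d := 5031936000) (by norm_num) (ok7 H).ord ((hB0 H).2.trans (by norm_num)) (by norm_num)

theorem sheet : Sheet G 145926144000 [⟨2, 2, 54, 245760⟩, ⟨2, 2, 42, 116480⟩, ⟨3, 1, 54, 4320⟩, ⟨5, 1, 108, 1200⟩, ⟨5, 1, 64, 4000⟩, ⟨7, 1, 125, 168⟩, ⟨13, 1, 406, 624⟩, ⟨29, 1, 406, 406⟩] :=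
  sheet_of (hB0 H).2 (F := [(2, 14), (3, 3), (5, 3), (7, 1), (13, 1), (29, 1)]) (by norm_num) (reps := [t91, t92, t93, t94, t95, t96, t97, t98])
    (.cons (ok0 H) (.cons (ok1 H) (.cons (ok2 H) (.cons (ok3 H) (.cons (ok4 H) (.cons (ok5 H) (.cons (ok6 H) (.cons (ok7 H) .nil))))))))
    (fa_cons (pcov (by norm_num) (cov2 H) (fa_cons ((.head _)) (fa_cons ((.tail _ (.head _))) fa_nil))) (fa_cons (pcov (by norm_num) (cov3 H) (fa_cons ((.tail _ (.tail _ (.head _)))) fa_nil)) (fa_cons (pcov (by norm_num) (cov5 H) (fa_cons ((.tail _ (.tail _ (.tail _ (.head _))))) (fa_cons ((.tail _ (.tail _ (.tail _ (.tail _ (.head _)))))) fa_nil))) (fa_cons (pcov (by norm_num) (cov7 H) (fa_cons ((.tail _ (.tail _ (.tail _ (.tail _ (.tail _ (.head _))))))) fa_nil)) (fa_cons (pcov (by norm_num) (cov13 H) (fa_cons ((.tail _ (.tail _ (.tail _ (.tail _ (.tail _ (.tail _ (.head _)))))))) fa_nil)) (fa_cons (pcov (by norm_num) (cov29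 H) (fa_cons ((.tail _ (.tail _ (.tail _ (.tail _ (.tail _ (.tail _ (.tail _ (.head _))))))))) fa_nil)) fa_nil))))))

theorem big : ∀ c : G, (orderOf c).Prime → orderOf c ∣ 377 → Dn c 1 358 :=
  big_of (F := [(29, 1), (13, 1)]) (by norm_num)
    (fa_cons (pcov (by norm_num) (cov29 H) (fa_cons ((ok7 H).big (by norm_num) (by norm_num)) fa_nil)) (fa_cons (pcov (by norm_num) (cov13 H) (fa_cons ((ok6 H).big (by norm_num) (by norm_num)) fa_nil)) fa_nil))

theorem row [IsSimpleGroup G] (hK : ¬ IsMulCommutative G) (ho : Nat.card (Out G) = 1) : Row G :=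
  (sheet H).row_one hK ho (by norm_num) (hB0 H).2 (a := 387072000) (by norm_num) (by norm_num) (by norm_num) (big H)
    (by simp only [List.map, List.sum_cons, List.sum_nil, Rc.term]; norm_num)

end Cfsg.Agent.SB.SporE.Ru
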