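import Cfsg.Agent.SB.SporE.Ru.Main
import Cfsg.Agent.SB.SporE.Gen
import Cfsg.Agent.H300.Ru.Eng
import Cfsg.Agent.RuLat.Main
import Cfsg.Agent.S2077

/-!
# S5765, the row of the Rudvalis group (helper64)

Density certificates in the model on 4060 points.
-/

set_option autoImplicit false

namespace Cfsg.Agent.SB.SporE

open Cfsg Cfsg.Agent.SB.Spor Cfsg.Agent.SporadicB

namespace Ru

/-- the action on 4060 points -/
noncomputable def φ : Cfsg.Spor.Ru →* Equiv.Perm (Fin 4060) := RuOrder.H.subtype.comp RuLat.Main.equiv.toMonoidHom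

theorem card_Ru : Nat.card Cfsg.Spor.Ru = 145926144000 := (Nat.card_congr RuLat.Main.equiv.toEquiv).trans RuOrder.card_H

theorem in_tab {a t : ℕ} (ha : a < 9) (e : H300.Ru.tab a = t) : (PM.ofHom φ).In lk t := by
  subst e
  refine ⟨RuLat.Main.equiv.symm (SporRec.TCUpperCert.wprod RuD.Letters.ml [a]),
    PM.rf_ofHom φ fun i => Eq.trans ?_ (H300.Ru.look_tab ha i).symm⟩
  simp only [φ, MonoidHom.comp_apply, MulEquiv.coe_toMonoidHom, MulEquiv.apply_symm_apply]
  rfl

theorem hyp : Hyp (PM.ofHom φ) where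
  h0 := .cons (in_tab (a := 0) (by norm_num) (by decide +kernel)) <|
    .cons (in_tab (a := 1) (by norm_num) (by decide +kernel)) <|
    .cons (in_tab (a := 2) (by norm_num) (by decide +kernel)) <|
    .cons (in_tab (a := 3) (by norm_num) (by decide +kernel)) <|
    .cons (in_tab (a := 4) (by norm_num) (by decide +kernel)) <|
    .cons (in_tab (a := 5) (by norm_num) (by decide +kernel)) <|
    .cons (in_tab (a := 6) (by norm_num) (by decide +kernel)) <|
    .cons (in_tab (a := 7) (by norm_num) (by decide +kernel)) <|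
    .cons (in_tab (a := 8) (by norm_num) (by decide +kernel)) .nil
  hN := card_Ru.le

end Ru

/-- **The row of the Rudvalis group.** -/
theorem row_Ru (K : Type*) [Group K] (h : Cfsg.Spor.IsoRu K) : Row K := by
  obtain ⟨e⟩ := h
  refine Row.of_equiv e ?_
  have : Finite Cfsg.Spor.Ru := Nat.finite_of_card_ne_zero (by rw [Ru.card_Ru]; norm_num)
  have : IsSimpleGroup Cfsg.Spor.Ru := RuLat.Main.main.2.2
  exact Ru.row Ru.hyp (not_comm_of_card (by rw [Ru.card_Ru]; norm_num)) S2077.result

end Cfsg.Agent.SB.SporE
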